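import Groth.Agent.TorsorRed.Glue
import Groth.Prelude.Def_ChGrp

/-!
# Reductions of torsors and sections of the quotient
-/

set_option autoImplicit false
set_option backward.isDefEq.respectTransparency false
set_option backward.isDefEq.respectTransparency.types false
universe u

noncomputable section

open CategoryTheory CategoryTheory.Limits MonoidalCategory CartesianMonoidalCategory MonObj AlgebraicGeometry

namespace Groth.Agent.TorsorRed

variable {S : Scheme.{u}} {G F Q : Over S} [GrpObj G] {a : AlgGrp.Action G F} {π : F ⟶ Q}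

theorem isPullback_prod (Y T : Over S) : IsPullback (fst Y T) (snd Y T) (toUnit Y) (toUnit T) := by
  have h := IsPullback.of_is_product (C := Over S) (tensorProductIsBinaryProduct Y T) isTerminalTensorUnit
  have e1 : isTerminalTensorUnit.from Y = toUnit Y := toUnit_unique _ _
  have e2 : isTerminalTensorUnit.from T = toUnit T := toUnit_unique _ _
  simpa [e1, e2] using h

theorem whiskerLeft_isPullback {T' T : Over S} (f : T' ⟶ T) : IsPullback (G ◁ f) (snd G T') (snd G T) f :=
  IsPullback.of_right (by simpa using isPullback_prod G T') (by simp) (isPullback_prod G T)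

/-- A pullback covering of an object over the base. -/
theorem cover_pullback {T : Over S} {Z : Scheme.{u}} (g : T.left ⟶ Z) {R : Presieve Z}
    (hR : R ∈ Scheme.etalePrecoverage Z) :
    ∃ R' ∈ Scheme.etalePrecoverage T.left, ∀ ⦃W : Scheme.{u}⦄ (f : W ⟶ T.left), R' f →
      ∃ (W' : Scheme.{u}) (f' : W' ⟶ Z) (q : W ⟶ W'), R f' ∧ q ≫ f' = f ≫ g := by
  refine ⟨_, Precoverage.pullbackArrows_mem (J := Scheme.etalePrecoverage) g hR, fun W f hf => ?_⟩
  cases hf with
  | mk W' f' hf' => exact ⟨W', f', pullback.fst _ _, hf', pullback.condition⟩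

variable {E : Over S} {aE : AlgGrp.Action G E} {φ : E ⟶ F}

theorem exists_translation (hp : NonAbH1.IsPseudoTorsorSch aE) {T : Over S} (e e' : T ⟶ E) :
    ∃ g : T ⟶ G, lift g e ≫ aE.act = e' := by
  haveI : IsIso (lift aE.act (snd G E)) := hp
  let z := lift e' e ≫ inv (lift aE.act (snd G E))
  have hz : z ≫ lift aE.act (snd G E) = lift e' e := by
    show (lift e' e ≫ inv _) ≫ _ = _
    rw [Category.assoc, IsIso.inv_hom_id, Category.comp_id]
  have h₁ : z ≫ aE.act = e' := by simpa using congrArg (· ≫ fst _ _) hz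
  have h₂ : z ≫ snd G E = e := by simpa using congrArg (· ≫ snd _ _) hz
  refine ⟨z ≫ fst G E, ?_⟩
  rw [← h₂, ← comp_lift, lift_fst_snd, Category.comp_id]
  exact h₁

theorem act_equivariant (hφ : AlgGrp.Action.IsEquivariant aE a φ) {T : Over S} (g : T ⟶ G) (e : T ⟶ E) :
    (lift g e ≫ aE.act) ≫ φ = lift g (e ≫ φ) ≫ a.act := by
  rw [Category.assoc, show aE.act ≫ φ = (G ◁ φ) ≫ a.act from hφ, lift_whiskerLeft_assoc]

theorem comp_eq (hp : NonAbH1.IsPseudoTorsorSch aE) (hφ : AlgGrp.Action.IsEquivariant aE a φ)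
    (hsq : IsPullback a.act (snd G F) π π) {T : Over S} (e e' : T ⟶ E) : e' ≫ φ ≫ π = e ≫ φ ≫ π := by
  obtain ⟨g, rfl⟩ := exists_translation hp e e'
  rw [← Category.assoc, act_equivariant hφ, Category.assoc, hsq.w, lift_snd_assoc, Category.assoc]

theorem existsUnique_section (hE : NonAbH1.IsTorsorFor Scheme.etalePrecoverage aE)
    (hφ : AlgGrp.Action.IsEquivariant aE a φ) (hsq : IsPullback a.act (snd G F) π π) :
    ∃! σ : 𝟙_ (Over S) ⟶ Q, toUnit E ≫ σ = φ ≫ π := by
  obtain ⟨R, hR, hs⟩ := hE.2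
  choose s hs using hs
  let pt : ∀ {W : Scheme.{u}} (f : W ⟶ S) (hf : R f), mem (𝟙_ (Over S)) f ⟶ E := fun {W} f hf =>
    Over.homMk (s f hf) (by rw [hs f hf]; exact (Category.comp_id f).symm)
  obtain ⟨σ, hσ⟩ := exists_hom (T := 𝟙_ (Over S)) (Y := Q) hR (fun W f hf => pt f hf ≫ φ ≫ π)
    (fun W₁ W₂ f₁ f₂ h₁ h₂ Z g₁ g₂ _ => by
      rw [← Category.assoc g₁, ← Category.assoc g₂]
      exact comp_eq hE.1 hφ hsq _ _)
  refine ⟨σ, ?_, fun σ' hσ' => hom_ext (T := 𝟙_ (Over S)) hR fun W f hf => ?_⟩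
  · obtain ⟨R', hR', hR'f⟩ := cover_pullback (T := E) E.hom hR
    refine hom_ext hR' fun W f hf => ?_
    obtain ⟨W', f', q, hf', hq⟩ := hR'f f hf
    let q' : mem E f ⟶ mem (𝟙_ (Over S)) f' := Over.homMk q (by
      show q ≫ f' ≫ 𝟙 S = f ≫ E.hom
      rw [Category.comp_id, hq])
    have hu : inc E f ≫ toUnit E = q' ≫ inc (𝟙_ (Over S)) f' := toUnit_unique _ _
    rw [← Category.assoc, hu, Category.assoc, hσ f' hf', ← Category.assoc]
    exact comp_eq hE.1 hφ hsq _ _
  · rw [hσ f hf, ← hσ', ← Category.assoc]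
    congr 1
    exact toUnit_unique _ _

theorem isPullback_section (hE : NonAbH1.IsTorsorFor Scheme.etalePrecoverage aE)
    (hφ : AlgGrp.Action.IsEquivariant aE a φ) (hsq : IsPullback a.act (snd G F) π π)
    (σ : 𝟙_ (Over S) ⟶ Q) (hσ : toUnit E ≫ σ = φ ≫ π) : IsPullback φ (toUnit E) π σ := by
  have uniq : ∀ {T : Over S} (y y' : T ⟶ E), y ≫ φ = y' ≫ φ → y = y' := by
    intro T y y' h
    obtain ⟨g, rfl⟩ := exists_translation hE.1 y y'
    rw [act_equivariant hφ] at h
    have h₁ : lift g (y ≫ φ) = lift (1 : T ⟶ G) (y ≫ φ) := by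
      refine hsq.hom_ext ?_ (by rw [lift_snd, lift_snd])
      rw [← h]
      exact (AlgGrp.Action.lift_one_act a (y ≫ φ)).symm
    have hg : g = 1 := by simpa using congrArg (· ≫ fst G F) h₁
    rw [hg]
    exact (AlgGrp.Action.lift_one_act aE y).symm
  have key : ∀ {T : Over S} (x : T ⟶ F), x ≫ π = toUnit T ≫ σ → ∃ y : T ⟶ E, y ≫ φ = x := by
    intro T x hx
    obtain ⟨R, hR, hs⟩ := hE.2
    obtain ⟨R', hR', hR'f⟩ := cover_pullback (T := T) T.hom hR
    have loc : ∀ ⦃W : Scheme.{u}⦄ (f : W ⟶ T.left), R' f → ∃ y : mem T f ⟶ E, y ≫ φ = inc T f ≫ x := by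
      intro W f hf
      obtain ⟨W', f', q, hf', hq⟩ := hR'f f hf
      obtain ⟨s, hs'⟩ := hs f' hf'
      let e : mem T f ⟶ E := Over.homMk (q ≫ s) (by
        show (q ≫ s) ≫ E.hom = f ≫ T.hom
        rw [Category.assoc, hs', hq])
      have he : (inc T f ≫ x) ≫ π = (e ≫ φ) ≫ π := by
        rw [Category.assoc, hx, Category.assoc e, ← hσ, ← Category.assoc, ← Category.assoc]
        congr 1
        exact toUnit_unique _ _
      let z := hsq.lift (inc T f ≫ x) (e ≫ φ) he
      refine ⟨lift (z ≫ fst G F) e ≫ aE.act, ?_⟩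
      rw [act_equivariant hφ]
      have : lift (z ≫ fst G F) (e ≫ φ) = z := by
        apply CartesianMonoidalCategory.hom_ext
        · rw [lift_fst]
        · rw [lift_snd]; exact (hsq.lift_snd _ _ _).symm
      rw [this]
      exact hsq.lift_fst _ _ _
    choose y hy using loc
    obtain ⟨Y, hY⟩ := exists_hom hR' y (fun W₁ W₂ f₁ f₂ h₁ h₂ Z g₁ g₂ e => uniq _ _ (by
      rw [Category.assoc, Category.assoc, hy, hy, reassoc_of% e]))
    exact ⟨Y, hom_ext hR' fun W f hf => by rw [← Category.assoc, hY f hf, hy]⟩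
  have hc : ∀ c : PullbackCone π σ, c.fst ≫ π = toUnit c.pt ≫ σ := fun c => by
    rw [c.condition]; congr 1; exact toUnit_unique _ _
  refine IsPullback.of_isLimit' ⟨hσ.symm⟩ (PullbackCone.IsLimit.mk _
    (fun c => (key c.fst (hc c)).choose)
    (fun c => (key c.fst (hc c)).choose_spec) (fun c => toUnit_unique _ _)
    (fun c m h₁ _ => uniq _ _ (h₁.trans (key c.fst (hc c)).choose_spec.symm)))

/-- The reduction attached to a section. -/
theorem exists_reduction (hsq : IsPullback a.act (snd G F) π π)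
    (hloc : NonAbH1.IsLocallyTrivialFor Scheme.etalePrecoverage (Over.mk π.left : Over Q.left))
    (σ : 𝟙_ (Over S) ⟶ Q) :
    ∃ (E : Over S) (aE : AlgGrp.Action G E) (φ : E ⟶ F),
      NonAbH1.IsTorsorFor Scheme.etalePrecoverage aE ∧ AlgGrp.Action.IsEquivariant aE a φ ∧
      IsPullback φ (toUnit E) π σ := by
  let E := pullback π σ
  let φ : E ⟶ F := pullback.fst π σ
  have sq : IsPullback φ (toUnit E) π σ := by
    rw [show toUnit E = pullback.snd π σ from toUnit_unique _ _]
    exact IsPullback.of_hasPullback π σ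
  let act : G ⊗ E ⟶ E := sq.lift ((G ◁ φ) ≫ a.act) (toUnit _) (by
    rw [Category.assoc, hsq.w, whiskerLeft_snd_assoc, sq.w, ← Category.assoc]
    congr 1
    exact toUnit_unique _ _)
  have hact : act ≫ φ = (G ◁ φ) ≫ a.act := sq.lift_fst _ _ _
  let aE : AlgGrp.Action G E :=
    { act := act
      one_act := sq.hom_ext (by
        rw [Category.assoc, hact, ← whisker_exchange_assoc, a.one_act, leftUnitor_naturality]) (toUnit_unique _ _)
      mul_act := sq.hom_ext (by
        rw [Category.assoc, hact, ← whisker_exchange_assoc, a.mul_act, associator_naturality_right_assoc,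
          ← MonoidalCategory.whiskerLeft_comp_assoc, ← hact, MonoidalCategory.whiskerLeft_comp,
          Category.assoc, Category.assoc, Category.assoc, hact]) (toUnit_unique _ _) }
  refine ⟨E, aE, φ, ⟨?_, ?_⟩, hact, sq⟩
  · have h₁ : IsPullback (act ≫ φ) (snd G E) π (φ ≫ π) := by
      rw [hact]
      exact (whiskerLeft_isPullback φ).paste_horiz hsq
    rw [sq.w] at h₁
    have h₂ : IsPullback act (snd G E) (toUnit E) (toUnit E) :=
      IsPullback.of_right h₁ (toUnit_unique _ _) sq
    show IsIso (lift act (snd G E))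
    refine ⟨h₂.lift (fst E E) (snd E E) (toUnit_unique _ _), ?_, ?_⟩
    · refine h₂.hom_ext ?_ ?_
      · rw [Category.assoc, IsPullback.lift_fst, lift_fst, Category.id_comp]
      · rw [Category.assoc, IsPullback.lift_snd, lift_snd, Category.id_comp]
    · apply CartesianMonoidalCategory.hom_ext
      · rw [Category.assoc, lift_fst, IsPullback.lift_fst, Category.id_comp]
      · rw [Category.assoc, lift_snd, IsPullback.lift_snd, Category.id_comp]
  · obtain ⟨R, hR, hs⟩ := hloc
    refine ⟨_, Precoverage.pullbackArrows_mem (J := Scheme.etalePrecoverage) σ.left hR, fun W f hf => ?_⟩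
    cases hf with
    | mk W' f' hf' =>
      obtain ⟨s, hs'⟩ := hs f' hf'
      have hs'' : s ≫ π.left = f' := hs'
      have sqL : IsPullback φ.left (toUnit E).left π.left σ.left := sq.map (Over.forget S)
      refine ⟨sqL.lift (pullback.fst f' σ.left ≫ s) (pullback.snd f' σ.left) ?_, ?_⟩
      · rw [Category.assoc, hs'', pullback.condition]
      · have e : E.hom = (toUnit E).left := ((Category.comp_id _).symm.trans (Over.w (toUnit E))).symm
        rw [e]
        exact sqL.lift_snd _ _ _

end Groth.Agent.TorsorRed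

end
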