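import Mathlib.AlgebraicGeometry.Sites.Proetale
import Mathlib.AlgebraicGeometry.Sites.Etale
import Groth.Prelude.Def_SiteColimFix

/-!
# Gluing morphisms of schemes over a base along etale coverings
-/

set_option autoImplicit false
set_option backward.isDefEq.respectTransparency false
universe u

open CategoryTheory CategoryTheory.Limits AlgebraicGeometry

namespace Groth.Agent.TorsorRed

instance : Scheme.etalePrecoverage.{u}.IsStableUnderBaseChange := by
  dsimp only [Scheme.etalePrecoverage]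
  infer_instance

variable {S : Scheme.{u}}

theorem isSheafFor_etale {T : Scheme.{u}} {R : Presieve T} (hR : R ∈ Scheme.etalePrecoverage T) (Y : Scheme.{u}) :
    Presieve.IsSheafFor (yoneda.obj Y) R := by
  rw [Presieve.isSheafFor_iff_generate]
  have hle : Scheme.etalePrecoverage.toGrothendieck ≤ Scheme.fpqcTopology :=
    Precoverage.toGrothendieck_mono
      (Scheme.etalePrecoverage_le_proetalePrecoverage.trans Scheme.proetalePrecoverage_le_fpqcPrecoverage)
  exact (GrothendieckTopology.Subcanonical.isSheaf_of_isRepresentable (J := Scheme.fpqcTopology) (yoneda.obj Y)) _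
    (hle _ (Precoverage.generate_mem_toGrothendieck hR))

/-- A member of a covering as an object over the base. -/
abbrev mem (T : Over S) {W : Scheme.{u}} (f : W ⟶ T.left) : Over S := Over.mk (f ≫ T.hom)

/-- The inclusion of a member. -/
abbrev inc (T : Over S) {W : Scheme.{u}} (f : W ⟶ T.left) : mem T f ⟶ T := Over.homMk f rfl

theorem hom_ext {T Y : Over S} {R : Presieve T.left} (hR : R ∈ Scheme.etalePrecoverage T.left) {a b : T ⟶ Y}
    (h : ∀ ⦃W : Scheme.{u}⦄ (f : W ⟶ T.left), R f → inc T f ≫ a = inc T f ≫ b) : a = b :=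
  Over.OverMorphism.ext ((isSheafFor_etale hR Y.left).isSeparatedFor.ext fun W f hf =>
    congrArg CommaMorphism.left (h f hf))

theorem exists_hom {T Y : Over S} {R : Presieve T.left} (hR : R ∈ Scheme.etalePrecoverage T.left)
    (y : ∀ ⦃W : Scheme.{u}⦄ (f : W ⟶ T.left), R f → (mem T f ⟶ Y))
    (hy : ∀ ⦃W₁ W₂ : Scheme.{u}⦄ (f₁ : W₁ ⟶ T.left) (f₂ : W₂ ⟶ T.left) (h₁ : R f₁) (h₂ : R f₂) (Z : Over S)
      (g₁ : Z ⟶ mem T f₁) (g₂ : Z ⟶ mem T f₂), g₁ ≫ inc T f₁ = g₂ ≫ inc T f₂ → g₁ ≫ y f₁ h₁ = g₂ ≫ y f₂ h₂) :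
    ∃ a : T ⟶ Y, ∀ ⦃W : Scheme.{u}⦄ (f : W ⟶ T.left) (hf : R f), inc T f ≫ a = y f hf := by
  obtain ⟨t, ht, -⟩ := isSheafFor_etale hR Y.left (fun W f hf => (y f hf).left) (fun W₁ W₂ Z g₁ g₂ f₁ f₂ h₁ h₂ e => by
    exact congrArg CommaMorphism.left (hy f₁ f₂ h₁ h₂ (Over.mk (g₁ ≫ f₁ ≫ T.hom)) (Over.homMk g₁ rfl)
      (Over.homMk g₂ (by show g₂ ≫ f₂ ≫ T.hom = g₁ ≫ f₁ ≫ T.hom; rw [← reassoc_of% e]))
      (Over.OverMorphism.ext e)))
  have hw : t ≫ Y.hom = T.hom := (isSheafFor_etale hR S).isSeparatedFor.ext fun W f hf => by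
    show f ≫ t ≫ Y.hom = f ≫ T.hom
    rw [← Category.assoc, show f ≫ t = (y f hf).left from ht f hf]
    exact Over.w (y f hf)
  exact ⟨Over.homMk t hw, fun W f hf => Over.OverMorphism.ext (ht f hf)⟩

end Groth.Agent.TorsorRed
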